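import Groth.Agent.PnEmb.Criterion
import Groth.Agent.RelVALib.FTBundle
import Mathlib.Algebra.Module.Submodule.Union

/-!
# Sections of a very ample module vanishing at a rational point but not at given other points
-/

set_option autoImplicit false
set_option linter.style.haveILetI false
set_option backward.isDefEq.respectTransparency.types false
set_option maxHeartbeats 1000000

universe u

open CategoryTheory CategoryTheory.Limits AlgebraicGeometry Opposite TopologicalSpace HomogeneousLocalization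
open Groth.Agent.Coherent Groth.Agent.PicLib Groth.Agent.AmpleLib

namespace Groth.Agent.FlatMorVASection

variable {X : Scheme.{u}} {L : X.Modules}

theorem notMem_glocus_iff {U : X.Opens} {g : Γ(L, U)} (hg : IsGen L U g) {y : X} (hy : y ∈ U) (s : Γ(L, ⊤)) :
    y ∉ glocus L s ↔ X.evaluation U y hy (hg.coef le_rfl (resM L le_top s)) = 0 := by
  rw [Scheme.evaluation_eq_zero_iff_notMem_basicOpen, ← glocus_inf s hg]
  exact ⟨fun h h' => h h'.1, fun h h' => h ⟨h', hy⟩⟩

theorem notMem_glocus_add (hL : PicF.IsInvertible L) {y : X} {a b : Γ(L, ⊤)} (ha : y ∉ glocus L a)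
    (hb : y ∉ glocus L b) : y ∉ glocus L (a + b) := by
  obtain ⟨U, hy, g, hg⟩ := exists_isGen hL y
  rw [notMem_glocus_iff hg hy] at ha hb ⊢
  rw [map_add, hg.coef_add, map_add, ha, hb, add_zero]

theorem notMem_glocus_smul (hL : PicF.IsInvertible L) {y : X} {a : Γ(L, ⊤)} (r : Γ(X, ⊤)) (ha : y ∉ glocus L a) :
    y ∉ glocus L (r • a) := by
  obtain ⟨U, hy, g, hg⟩ := exists_isGen hL y
  rw [notMem_glocus_iff hg hy] at ha ⊢
  rw [resM_smul, hg.coef_smul, map_mul, ha, mul_zero]

theorem notMem_glocus_zero (hL : PicF.IsInvertible L) (y : X) : y ∉ glocus L (0 : Γ(L, ⊤)) := by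
  obtain ⟨U, hy, g, hg⟩ := exists_isGen hL y
  rw [notMem_glocus_iff hg hy, map_zero, show hg.coef le_rfl (0 : Γ(L, U)) = 0 from
    hg.coef_eq le_rfl (zero_smul _ _), map_zero]

/-- Evaluation at `y` of a function on a chart pulled back along `a`. -/
noncomputable def chartEval {n : ℕ} {R : Type u} [CommRing R] (a : X ⟶ CohB1.ProjSpace n R) (p : Fin (n + 1))
    (y : X) (hy : a y ∈ PnEmb.chartOpen n R p) :
    CommRingCat.of (Away (CohB1.polyGrading n R) (MvPolynomial.X p)) ⟶ X.residueField y :=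
  Proj.awayToSection (CohB1.polyGrading n R) (MvPolynomial.X p) ≫ a.app (PnEmb.chartOpen n R p) ≫
    X.evaluation (a ⁻¹ᵁ PnEmb.chartOpen n R p) y hy

theorem fromSpecResidueField_comp {P : Scheme.{u}} (a : X ⟶ P) {V : P.Opens} (hV : IsAffineOpen V) (y : X)
    (hy : a y ∈ V) :
    X.fromSpecResidueField y ≫ a = Spec.map (a.app V ≫ X.evaluation (a ⁻¹ᵁ V) y hy) ≫ hV.fromSpec := by
  rw [Scheme.fromSpecResidueField, Category.assoc, ← Scheme.SpecMap_stalkMap_fromSpecStalk,
    ← hV.fromSpecStalk_eq_fromSpecStalk hy, IsAffineOpen.fromSpecStalk, ← Spec.map_comp_assoc,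
    ← Spec.map_comp_assoc]
  congr 2
  rw [Scheme.Hom.germ_stalkMap_assoc]
  rfl

variable {k : Type u} [Field k] (q : X ⟶ Spec (CommRingCat.of k))

/-- The field map `k → κ(y)`. -/
noncomputable def pointMap (y : X) : k →+* X.residueField y :=
  (X.evaluation ⊤ y trivial).hom.comp (ProjUP.toGlobal q)

theorem specMap_pointMap (y : X) :
    X.fromSpecResidueField y ≫ q = Spec.map (CommRingCat.ofHom (pointMap q y)) := by
  have h := fromSpecResidueField_comp q (isAffineOpen_top (Spec (CommRingCat.of k))) y trivial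
  rw [h, IsAffineOpen.fromSpec_top, Scheme.isoSpec_Spec_inv, ← Spec.map_comp]
  rfl

section coords

variable {n : ℕ} {R : Type u} [CommRing R] (a : X ⟶ CohB1.ProjSpace n R)
  (τ : (Scheme.Modules.pullback a).obj (GrTwist.twist (CohB1.polyGrading n R) ((1 : ℕ) : ℤ)) ≅ L)

/-- The section of `L` given by a linear form. -/
noncomputable def tsec (b : MvPolynomial (Fin (n + 1)) R) (hb : b ∈ CohB1.polyGrading n R 1) : Γ(L, ⊤) :=
  τ.hom.app ⊤ (PicLib.pullSec a (UPLib.sec b hb))

theorem hgen (n : ℕ) (R : Type u) [CommRing R] : Algebra.adjoin (CohB1.polyGrading n R 0)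
    (CohB1.polyGrading n R 1 : Set (MvPolynomial (Fin (n + 1)) R)) = ⊤ :=
  UPLib.adjoin_one_eq_top (UPLib.linForm_mem n) (UPLib.isSymmetricAlgebra_linForm n)

theorem preimage_chart (p : Fin (n + 1)) : a ⁻¹ᵁ PnEmb.chartOpen n R p =
    glocus L (tsec a τ (MvPolynomial.X p) (MvPolynomial.isHomogeneous_X R p)) := by
  refine Eq.trans ?_ (glocus_map_iso τ _).symm
  exact (UPLib.preimage_basicOpen_eq (hgen n R) a (MvPolynomial.isHomogeneous_X R p)).symm

theorem evaluation_toGlobal (W : X.Opens) (z : X) (hz : z ∈ W) (c : k) :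
    X.evaluation W z hz (res le_top (ProjUP.toGlobal q c)) = pointMap q z c := by
  show X.residue z (X.presheaf.germ W z hz (X.presheaf.map (homOfLE le_top).op (ProjUP.toGlobal q c))) = _
  rw [TopCat.Presheaf.germ_res_apply]
  rfl

theorem notMem_glocus_sub_iff (p : Fin (n + 1)) (b : MvPolynomial (Fin (n + 1)) R)
    (hb : b ∈ CohB1.polyGrading n R (1 • 1)) (hb' : b ∈ CohB1.polyGrading n R 1) (c : k) (z : X)
    (hz : a z ∈ PnEmb.chartOpen n R p) :
    z ∉ glocus L (tsec a τ b hb' -
        ProjUP.toGlobal q c • tsec a τ (MvPolynomial.X p) (MvPolynomial.isHomogeneous_X R p)) ↔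
      (chartEval a p z hz).hom (Away.mk _ (MvPolynomial.isHomogeneous_X R p) 1 b hb) = pointMap q z c := by
  let W := a ⁻¹ᵁ PnEmb.chartOpen n R p
  have hW : IsGen L W (resM L le_top (tsec a τ (MvPolynomial.X p) (MvPolynomial.isHomogeneous_X R p))) :=
    (le_glocus_iff _ W).1 (preimage_chart a τ p).le
  let g : Γ(X, W) := (Proj.awayToSection (CohB1.polyGrading n R) (MvPolynomial.X p) ≫
    a.appLE (PnEmb.chartOpen n R p) W le_rfl).hom (Away.mk _ (MvPolynomial.isHomogeneous_X R p) 1 b hb)
  have h' : g • resM L (le_top : W ≤ ⊤) (tsec a τ (MvPolynomial.X p) (MvPolynomial.isHomogeneous_X R p)) =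
      resM L le_top (tsec a τ b hb') := by
    refine ((congrArg (g • ·) (app_resM τ.hom _ _)).symm.trans
      ((Scheme.Modules.Hom.app_smul _ _ _).symm.trans ?_)).trans (app_resM τ.hom _ _)
    exact congrArg (τ.hom.app W) (UPLib.appLE_smul_sec (MvPolynomial.isHomogeneous_X R p) a W le_rfl b hb)
  have hcoef : hW.coef le_rfl (resM L le_top (tsec a τ b hb' -
      ProjUP.toGlobal q c • tsec a τ (MvPolynomial.X p) (MvPolynomial.isHomogeneous_X R p))) =
      g - res le_top (ProjUP.toGlobal q c) := by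
    refine hW.coef_eq le_rfl ?_
    rw [resM_self, sub_smul, map_sub, resM_smul, h']
  have hg : X.evaluation W z hz g =
      (chartEval a p z hz).hom (Away.mk _ (MvPolynomial.isHomogeneous_X R p) 1 b hb) := by
    simp only [g, chartEval, Scheme.Hom.app_eq_appLE]
    rfl
  rw [notMem_glocus_iff hW hz, hcoef, map_sub, hg, evaluation_toGlobal, sub_eq_zero]

variable {x y : X} (ψ : X.residueField x →+* X.residueField y)
  (hψ : ∀ c, ψ (pointMap q x c) = pointMap q y c) (hsurj : Function.Surjective (pointMap q x))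
  (h : ∀ s : Γ(L, ⊤), x ∉ glocus L s → y ∉ glocus L s)
  (p : Fin (n + 1)) (hpx : a x ∈ PnEmb.chartOpen n R p) (hp : a y ∈ PnEmb.chartOpen n R p)

include τ hψ hsurj h in
theorem chartEval_one (b : MvPolynomial (Fin (n + 1)) R) (hb : b ∈ CohB1.polyGrading n R (1 • 1)) :
    (chartEval a p y hp).hom (Away.mk _ (MvPolynomial.isHomogeneous_X R p) 1 b hb) =
      ψ ((chartEval a p x hpx).hom (Away.mk _ (MvPolynomial.isHomogeneous_X R p) 1 b hb)) := by
  have hb' : b ∈ CohB1.polyGrading n R 1 := by simpa using hb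
  obtain ⟨c, hc⟩ := hsurj ((chartEval a p x hpx).hom (Away.mk _ (MvPolynomial.isHomogeneous_X R p) 1 b hb))
  have h2 := h _ ((notMem_glocus_sub_iff q a τ p b hb hb' c x hpx).2 hc.symm)
  rw [(notMem_glocus_sub_iff q a τ p b hb hb' c y hp).1 h2, ← hc, hψ]

include τ hψ hsurj h in
theorem chartEval_eq : chartEval a p y hp = chartEval a p x hpx ≫ CommRingCat.ofHom ψ := by
  refine CommRingCat.hom_ext ?_
  let S := RingHom.eqLocus (chartEval a p y hp).hom (ψ.comp (chartEval a p x hpx).hom)
  have hS : S = ⊤ := by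
    refine RelVALib.away_closure_eq_top (hgen n R) (MvPolynomial.isHomogeneous_X R p) S (fun b hb => ?_)
      (chartEval_one q a τ ψ hψ hsurj h p hpx hp)
    have h0 : b ∈ CohB1.polyGrading n R 0 := by simpa using hb
    have hb1 : b * MvPolynomial.X p ∈ CohB1.polyGrading n R (1 • 1) := by
      simpa using SetLike.mul_mem_graded h0 (MvPolynomial.isHomogeneous_X R p : MvPolynomial.X p ∈ CohB1.polyGrading n R 1)
    have e0 : Away.mk (CohB1.polyGrading n R) (MvPolynomial.isHomogeneous_X R p) 0 b hb =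
        Away.mk (CohB1.polyGrading n R) (MvPolynomial.isHomogeneous_X R p) 1 (b * MvPolynomial.X p) hb1 := by
      refine HomogeneousLocalization.val_injective _ ?_
      rw [Away.val_mk, Away.val_mk]
      exact Localization.mk_eq_mk_iff.2 (Localization.r_iff_exists.2 ⟨1, by simp; ring⟩)
    rw [e0]
    exact chartEval_one q a τ ψ hψ hsurj h p hpx hp _ hb1
  exact RingHom.ext fun z => (hS.ge (Subring.mem_top z) : z ∈ S)

include τ hψ hsurj h hpx hp in
theorem fromSpecResidueField_eq :
    X.fromSpecResidueField y ≫ a = Spec.map (CommRingCat.ofHom ψ) ≫ X.fromSpecResidueField x ≫ a := by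
  have hVa : IsAffineOpen (PnEmb.chartOpen n R p) := PnEmb.isAffineOpen_chartOpen p
  haveI : IsIso (Proj.awayToSection (CohB1.polyGrading n R) (MvPolynomial.X p)) :=
    inferInstanceAs (IsIso (Proj.basicOpenIsoAway (CohB1.polyGrading n R) (MvPolynomial.X p)
      (MvPolynomial.isHomogeneous_X R p) one_pos).hom)
  rw [fromSpecResidueField_comp a hVa y hp, fromSpecResidueField_comp a hVa x hpx, ← Spec.map_comp_assoc]
  congr 2
  refine (cancel_epi (Proj.awayToSection (CohB1.polyGrading n R) (MvPolynomial.X p))).1 ?_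
  exact (chartEval_eq q a τ ψ hψ hsurj h p hpx hp).trans
    ((Category.assoc _ _ _).trans (congrArg (_ ≫ ·) (Category.assoc _ _ _)))

end coords

/-- A point all of whose vanishing conditions follow from those of a rational point is that point. -/
theorem eq_of_vanishing (hva : RelAmple.IsRelVeryAmplePn q L) {x y : X}
    (hx : Function.Bijective (pointMap q x))
    (h : ∀ s : Γ(L, ⊤), x ∉ glocus L s → y ∉ glocus L s) : y = x := by
  obtain ⟨n, i, hi, hiq, ⟨e⟩⟩ := hva
  let pr₁ := pullback.fst (CohB1.ProjSpace.toSpec n (ULift.{u} ℤ)) (specULiftZIsTerminal.from (Spec (CommRingCat.of k)))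
  let a := i ≫ pr₁
  let τ : (Scheme.Modules.pullback a).obj (Twist.twistProjSpace n (ULift.{u} ℤ) 1) ≅ L :=
    ((Scheme.Modules.pullbackComp i pr₁).app _).symm ≪≫ e.symm
  obtain ⟨p, hp⟩ : ∃ p, a y ∈ PnEmb.chartOpen n (ULift.{u} ℤ) p :=
    Opens.mem_iSup.1 ((Proj.iSup_basicOpen_eq_top (CohB1.polyGrading n (ULift.{u} ℤ)) _ (ProjLib.irrelevant_le_span_X n _)).ge
      (show a y ∈ (⊤ : (CohB1.ProjSpace n (ULift.{u} ℤ)).Opens) from trivial))
  have hpx : a x ∈ PnEmb.chartOpen n (ULift.{u} ℤ) p :=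
    (preimage_chart a τ p).ge (by_contra fun hn => h _ hn ((preimage_chart a τ p).le hp))
  let ψ : X.residueField x →+* X.residueField y :=
    (pointMap q y).comp (RingEquiv.ofBijective (pointMap q x) hx).symm.toRingHom
  have hψ : ∀ c, ψ (pointMap q x c) = pointMap q y c := fun c =>
    congrArg (pointMap q y) ((RingEquiv.ofBijective (pointMap q x) hx).symm_apply_apply c)
  have hpts : X.fromSpecResidueField y ≫ i =
      Spec.map (CommRingCat.ofHom ψ) ≫ X.fromSpecResidueField x ≫ i := by
    refine pullback.hom_ext ?_ ?_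
    · refine (Category.assoc _ _ _).trans
        ((fromSpecResidueField_eq q a τ ψ hψ hx.2 h p hpx hp).trans ?_)
      exact ((Category.assoc _ _ _).trans (congrArg (Spec.map (CommRingCat.ofHom ψ) ≫ ·) (Category.assoc _ _ _))).symm
    · refine (Category.assoc _ _ _).trans (Eq.trans ?_ ((Category.assoc _ _ _).trans
        (congrArg (Spec.map (CommRingCat.ofHom ψ) ≫ ·) (Category.assoc _ _ _))).symm)
      refine (congrArg (X.fromSpecResidueField y ≫ ·) hiq).trans (Eq.trans ?_
        (congrArg (fun z => Spec.map (CommRingCat.ofHom ψ) ≫ X.fromSpecResidueField x ≫ z) hiq.symm))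
      rw [specMap_pointMap, specMap_pointMap, ← Spec.map_comp]
      congr 1
      exact CommRingCat.hom_ext (RingHom.ext fun c => (hψ c).symm)
  haveI := hi
  refine i.isEmbedding.injective ?_
  have := congrArg (fun z : Spec (X.residueField y) ⟶ _ => z (IsLocalRing.closedPoint (X.residueField y))) hpts
  rw [Scheme.Hom.comp_apply, Scheme.Hom.comp_apply, Scheme.Hom.comp_apply, Scheme.fromSpecResidueField_apply] at this
  erw [Scheme.fromSpecResidueField_apply] at this
  exact this

/-- A section vanishing at a rational point and at none of finitely many other points. -/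
theorem exists_section [Infinite k] (hva : RelAmple.IsRelVeryAmplePn q L) (hL : PicF.IsInvertible L) {x : X}
    (hx : Function.Bijective (pointMap q x)) {ι : Type*} [Finite ι] (pts : ι → X) (hne : ∀ j, pts j ≠ x) :
    ∃ s : Γ(L, ⊤), x ∉ glocus L s ∧ ∀ j, pts j ∈ glocus L s := by
  letI : Module k Γ(L, ⊤) := Module.compHom _ (ProjUP.toGlobal q)
  let K : X → Submodule k Γ(L, ⊤) := fun z =>
    { carrier := {s | z ∉ glocus L s}
      add_mem' := fun ha hb => notMem_glocus_add hL ha hb
      zero_mem' := notMem_glocus_zero hL z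
      smul_mem' := fun c _ ha => notMem_glocus_smul hL (ProjUP.toGlobal q c) ha }
  let P : ι → Submodule k (K x) := fun j => (K (pts j)).comap (K x).subtype
  have hP : ∀ j, P j ≠ ⊤ := fun j htop => hne j (eq_of_vanishing q hva hx fun s hs =>
    (Submodule.eq_top_iff'.1 htop ⟨s, hs⟩ : s ∈ K (pts j)))
  obtain ⟨s, hs⟩ := Submodule.exists_forall_notMem_of_forall_ne_top P hP
  exact ⟨s.1, s.2, fun j => not_not.1 (hs j)⟩

end Groth.Agent.FlatMorVASection
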